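import Mathlib

/-! # S2522 (products of two regular unipotent conjugates): shared definitions (helper65) -/

set_option autoImplicit false

namespace Cfsg.Agent.Lib.Helper65.RU

open Matrix

variable {K : Type*} [Field K]

/-- the regular unipotent matrix: ones on the diagonal and the superdiagonal -/
def Jmat (n : ℕ) : Matrix (Fin n) (Fin n) K :=
  fun i j => if i = j then 1 else if j.val = i.val + 1 then 1 else 0

/-- lower unitriangular with nonzero subdiagonal -/
def IsRegLower {n : ℕ} (L : Matrix (Fin n) (Fin n) K) : Prop :=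
  (∀ i j : Fin n, i < j → L i j = 0) ∧ (∀ i, L i i = 1) ∧ (∀ i j : Fin n, j.val + 1 = i.val → L i j ≠ 0)

/-- upper unitriangular with nonzero superdiagonal -/
def IsRegUpper {n : ℕ} (U : Matrix (Fin n) (Fin n) K) : Prop :=
  (∀ i j : Fin n, j < i → U i j = 0) ∧ (∀ i, U i i = 1) ∧ (∀ i j : Fin n, i.val + 1 = j.val → U i j ≠ 0)

/-- a product of a regular lower and a regular upper unitriangular matrix -/
def GoodLU {n : ℕ} (A : Matrix (Fin n) (Fin n) K) : Prop :=
  ∃ L U : Matrix (Fin n) (Fin n) K, IsRegLower L ∧ IsRegUpper U ∧ A = L * U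

/-- the hypothesis carried by the induction: size at most one, or non-scalar with `rank (A - 1) ≥ 2` -/
def HypH {n : ℕ} (A : Matrix (Fin n) (Fin n) K) : Prop :=
  n ≤ 1 ∨ ((¬ ∃ c : K, A = c • (1 : Matrix (Fin n) (Fin n) K)) ∧ 2 ≤ (A - 1).rank)

/-- the Schur complement of the `(0,0)` entry (assumed to be `1`) -/
def schur {m : ℕ} (A : Matrix (Fin (m + 1)) (Fin (m + 1)) K) : Matrix (Fin m) (Fin m) K :=
  fun i j => A i.succ j.succ - A i.succ 0 * A 0 j.succ

/-- the first column below the `(0,0)` entry -/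
def col0 {m : ℕ} (A : Matrix (Fin (m + 1)) (Fin (m + 1)) K) : Fin m → K := fun i => A i.succ 0

/-- the first row right of the `(0,0)` entry -/
def row0 {m : ℕ} (A : Matrix (Fin (m + 1)) (Fin (m + 1)) K) : Fin m → K := fun j => A 0 j.succ

/-- the statement proved by induction on the size `n + 1` -/
def Target (K : Type*) [Field K] (n : ℕ) : Prop :=
  ∀ A : Matrix (Fin (n + 1)) (Fin (n + 1)) K, A.det = 1 → HypH A →
    ∀ x ψ : Fin (n + 1) → K, x ≠ 0 → ψ ≠ 0 →
      ∃ P : GL (Fin (n + 1)) K, GoodLU ((P⁻¹ : GL (Fin (n + 1)) K).val * A * P.val) ∧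
        (ψ ᵥ* P.val) 0 ≠ 0 ∧ ((P⁻¹ : GL (Fin (n + 1)) K).val *ᵥ x) 0 ≠ 0

/-- the linear functional `v ↦ ψ ⬝ᵥ v` -/
def dualOf {n : ℕ} (ψ : Fin n → K) : Module.Dual K (Fin n → K) where
  toFun v := ψ ⬝ᵥ v
  map_add' := dotProduct_add ψ
  map_smul' c v := by simp [dotProduct_smul]

@[simp] theorem dualOf_apply {n : ℕ} (ψ v : Fin n → K) : dualOf ψ v = ψ ⬝ᵥ v := rfl

section abstract

variable {V : Type*} [AddCommGroup V] [Module K V]

/-- the compression of `g` to `ker φ` along `g a`, minus the identity, written on all of `V` -/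
def comp (g : V →ₗ[K] V) (a : V) (φ : Module.Dual K V) (v : V) : V := g v - φ (g v) • g a

/-- a good choice of the first basis vector `a` and the first coordinate functional `φ` -/
structure Peel (g : V →ₗ[K] V) (x : V) (ψ : Module.Dual K V) (a : V) (φ : Module.Dual K V) : Prop where
  phi_a : φ a = 1
  phi_ga : φ (g a) = 1
  ne : g a ≠ a
  psi_a : ψ a ≠ 0
  phi_x : φ x ≠ 0
  row : ∃ v, φ v = 0 ∧ φ (g v) ≠ 0
  nonscalar : 3 ≤ Module.finrank K V → ¬ ∃ c : K, ∀ v, φ v = 0 → comp g a φ v = c • v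
  rank2 : 3 ≤ Module.finrank K V →
    ∃ v w, φ v = 0 ∧ φ w = 0 ∧ LinearIndependent K ![comp g a φ v - v, comp g a φ w - w]

end abstract

end Cfsg.Agent.Lib.Helper65.RU
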