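import Cfsg.Agent.Lib.Helper65.RU.Defs

/-! # S2522: basic lemmas for the existence of a good pair `(a, φ)` (helper65) -/

set_option autoImplicit false

namespace Cfsg.Agent.Lib.Helper65.RU

open Module

variable {K : Type*} [Field K] {V : Type*} [AddCommGroup V] [Module K V]

/-- a functional with value `1` at a vector outside a subspace on which it vanishes -/
theorem exists_dual_one (W : Submodule K V) (u : V) (hu : u ∉ W) :
    ∃ δ : Dual K V, δ u = 1 ∧ ∀ w ∈ W, δ w = 0 := by
  obtain ⟨f, hf, hf'⟩ := Submodule.exists_dual_map_eq_bot_of_notMem hu inferInstance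
  refine ⟨(f u)⁻¹ • f, by simp [hf], fun w hw => ?_⟩
  have : f w ∈ W.map f := Submodule.mem_map_of_mem hw
  rw [hf'] at this
  simp [(Submodule.mem_bot K).1 this]

/-- the admissible functionals for `a`, as an affine subspace of the dual -/
def admSpace (g : V →ₗ[K] V) (a : V) : AffineSubspace K (Dual K V) where
  carrier := {φ | φ a = 1 ∧ φ (g a) = 1}
  smul_vsub_vadd_mem' := by
    intro c p₁ p₂ p₃ h₁ h₂ h₃
    simp only [Set.mem_ofPred_eq, vsub_eq_sub, vadd_eq_add, LinearMap.add_apply, LinearMap.smul_apply,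
      LinearMap.sub_apply] at *
    constructor <;> simp [h₁.1, h₁.2, h₂.1, h₂.2, h₃.1, h₃.2]

theorem mem_admSpace (g : V →ₗ[K] V) (a : V) (φ : Dual K V) :
    φ ∈ admSpace g a ↔ φ a = 1 ∧ φ (g a) = 1 := Iff.rfl

/-- the functionals vanishing at `y` -/
def zeroAt (y : V) : AffineSubspace K (Dual K V) where
  carrier := {φ | φ y = 0}
  smul_vsub_vadd_mem' := by
    intro c p₁ p₂ p₃ h₁ h₂ h₃
    simp only [Set.mem_ofPred_eq, vsub_eq_sub, vadd_eq_add, LinearMap.add_apply, LinearMap.smul_apply,
      LinearMap.sub_apply] at *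
    simp [h₁, h₂, h₃]

theorem mem_zeroAt (y : V) (φ : Dual K V) : φ ∈ (zeroAt y : AffineSubspace K (Dual K V)) ↔ φ y = 0 := Iff.rfl

/-- a single functional -/
def pointAt (p : Dual K V) : AffineSubspace K (Dual K V) where
  carrier := {p}
  smul_vsub_vadd_mem' := by
    intro c p₁ p₂ p₃ h₁ h₂ h₃
    simp only [Set.mem_singleton_iff] at *
    subst h₁ h₂ h₃
    simp

theorem mem_pointAt (p φ : Dual K V) : φ ∈ (pointAt p : AffineSubspace K (Dual K V)) ↔ φ = p := Iff.rfl

theorem notMem_span_sub (g : V →ₗ[K] V) (a : V) (hli : LinearIndependent K ![a, g a]) :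
    a ∉ Submodule.span K {g a - a} := by
  intro h
  obtain ⟨c, hc⟩ := Submodule.mem_span_singleton.1 h
  have h0 : (-1 - c) • a + c • g a = 0 := by
    rw [smul_sub] at hc
    calc (-1 - c) • a + c • g a = (c • g a - c • a) - a := by module
      _ = 0 := by rw [hc, sub_self]
  obtain ⟨h1, h2⟩ := LinearIndependent.pair_iff.1 hli _ _ h0
  rw [h2] at h1
  norm_num at h1

theorem sub_ne_zero_of_li (g : V →ₗ[K] V) (a : V) (hli : LinearIndependent K ![a, g a]) : g a - a ≠ 0 := by
  intro h
  have h0 : (-1 : K) • a + (1 : K) • g a = 0 := by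
    calc (-1 : K) • a + (1 : K) • g a = g a - a := by module
      _ = 0 := h
  have := (LinearIndependent.pair_iff.1 hli _ _ h0).2
  exact one_ne_zero this

/-- P1: an admissible functional not vanishing at a vector outside the line of `g a - a` -/
theorem exists_adm_ne (g : V →ₗ[K] V) (a : V) (hli : LinearIndependent K ![a, g a]) (y : V)
    (hy : y ∉ Submodule.span K {g a - a}) : ∃ φ : Dual K V, φ a = 1 ∧ φ (g a) = 1 ∧ φ y ≠ 0 := by
  obtain ⟨φ₀, h1, h2⟩ := exists_dual_one (Submodule.span K {g a - a}) a (notMem_span_sub g a hli)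
  have ht : φ₀ (g a - a) = 0 := h2 _ (Submodule.mem_span_singleton_self _)
  have hga : φ₀ (g a) = 1 := by
    have : φ₀ (g a) = φ₀ (g a - a) + φ₀ a := by rw [← map_add]; congr 1; abel
    rw [this, ht, h1, zero_add]
  by_cases h0 : φ₀ y = 0
  · have hy2 : y ∉ Submodule.span K {a, g a - a} := by
      intro hmem
      obtain ⟨α, β, hαβ⟩ := Submodule.mem_span_pair.1 hmem
      have : φ₀ y = α := by rw [← hαβ]; simp [h1, ht]
      rw [h0] at this
      rw [← this, zero_smul, zero_add] at hαβ
      exact hy (hαβ ▸ Submodule.smul_mem _ _ (Submodule.mem_span_singleton_self _))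
    obtain ⟨δ, hδ1, hδ2⟩ := exists_dual_one _ y hy2
    have hδa : δ a = 0 := hδ2 _ (Submodule.subset_span (by simp))
    have hδt : δ (g a - a) = 0 := hδ2 _ (Submodule.subset_span (by simp))
    have hδga : δ (g a) = 0 := by
      have : δ (g a) = δ (g a - a) + δ a := by rw [← map_add]; congr 1; abel
      rw [this, hδt, hδa, add_zero]
    exact ⟨φ₀ + δ, by simp [h1, hδa], by simp [hga, hδga], by simp [h0, hδ1]⟩
  · exact ⟨φ₀, h1, hga, h0⟩

/-- the admissible space is not contained in `zeroAt y` for `y` outside the line of `g a - a` -/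
theorem admSpace_not_le_zeroAt (g : V →ₗ[K] V) (a : V) (hli : LinearIndependent K ![a, g a]) (y : V)
    (hy : y ∉ Submodule.span K {g a - a}) : ¬ admSpace g a ≤ zeroAt y := by
  intro h
  obtain ⟨φ, h1, h2, h3⟩ := exists_adm_ne g a hli y hy
  exact h3 (h (show φ ∈ admSpace g a from ⟨h1, h2⟩))

/-- in dimension at least three the admissible space is not a single point -/
theorem admSpace_not_le_pointAt [FiniteDimensional K V] (h3 : 3 ≤ finrank K V) (g : V →ₗ[K] V) (a : V)
    (hli : LinearIndependent K ![a, g a]) (p : Dual K V) : ¬ admSpace g a ≤ pointAt p := by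
  intro h
  have hne : Submodule.span K (Set.range ![a, g a]) ≠ ⊤ := by
    intro htop
    have h2 : finrank K (Submodule.span K (Set.range ![a, g a])) ≤ 2 := by
      have := finrank_range_le_card (R := K) ![a, g a]
      simpa [Set.finrank] using this
    rw [htop, finrank_top] at h2
    omega
  obtain ⟨u, hu⟩ : ∃ u, u ∉ Submodule.span K (Set.range ![a, g a]) := by
    by_contra hcon
    push Not at hcon
    exact hne (Submodule.eq_top_iff'.2 hcon)
  obtain ⟨δ, hδ1, hδ2⟩ := exists_dual_one _ u hu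
  have hδa : δ a = 0 := hδ2 _ (Submodule.subset_span ⟨0, rfl⟩)
  have hδga : δ (g a) = 0 := hδ2 _ (Submodule.subset_span ⟨1, rfl⟩)
  obtain ⟨φ, h1, h2, -⟩ := exists_adm_ne g a hli a (notMem_span_sub g a hli)
  have hp1 : φ = p := h (show φ ∈ admSpace g a from ⟨h1, h2⟩)
  have hp2 : φ + δ = p := h (show φ + δ ∈ admSpace g a from ⟨by simp [h1, hδa], by simp [h2, hδga]⟩)
  have : δ = 0 := by
    have := hp2.trans hp1.symm
    simpa using this
  rw [this] at hδ1
  simp at hδ1

end Cfsg.Agent.Lib.Helper65.RU
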