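import Cfsg.Agent.Lib.Helper65.RU.ExistA

/-! # S2522: the compression of `g` to `ker φ` (helper65) -/

set_option autoImplicit false

namespace Cfsg.Agent.Lib.Helper65.RU

open Module

variable {K : Type*} [Field K] {V : Type*} [AddCommGroup V] [Module K V]

theorem comp_sub_self (g : V →ₗ[K] V) (a : V) (φ : Dual K V) (v : V) (hv : φ v = 0) :
    comp g a φ v - v = (g v - v) - φ (g v - v) • g a := by
  unfold comp
  rw [map_sub, hv, sub_zero]
  abel

/-- the first row is nonzero -/
theorem row_of (g : V →ₗ[K] V) (a : V) (φ : Dual K V) (h1 : φ a = 1) (h2 : φ (g a) = 1) (y : V)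
    (hy : φ (g y - y) ≠ 0) : ∃ v, φ v = 0 ∧ φ (g v) ≠ 0 := by
  refine ⟨y - φ y • a, by simp [h1], ?_⟩
  have : φ (g (y - φ y • a)) = φ (g y - y) := by
    simp only [map_sub, map_smul, smul_eq_mul, h2, mul_one]
  rw [this]
  exact hy

/-- two independent vectors in the range of a map of rank at least two -/
theorem exists_pair_of_two_le_finrank_range {W : Type*} [AddCommGroup W] [Module K W] [FiniteDimensional K V]
    (T : W →ₗ[K] V) (h : 2 ≤ finrank K (LinearMap.range T)) :
    ∃ y₁ y₂ : W, LinearIndependent K ![T y₁, T y₂] := by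
  have hpos : 0 < finrank K (LinearMap.range T) := by omega
  obtain ⟨x, hx⟩ := Module.finrank_pos_iff_exists_ne_zero.1 hpos
  have h1 : 1 < finrank K (LinearMap.range T) := by omega
  obtain ⟨y, hy⟩ := exists_linearIndependent_pair_of_one_lt_finrank h1 hx
  have h2 := hy.map' (LinearMap.range T).subtype (Submodule.ker_subtype _)
  obtain ⟨y₁, hy₁⟩ := LinearMap.mem_range.1 x.2
  obtain ⟨y₂, hy₂⟩ := LinearMap.mem_range.1 y.2
  refine ⟨y₁, y₂, ?_⟩
  have e : ![T y₁, T y₂] = (LinearMap.range T).subtype ∘ ![x, y] := by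
    funext i
    fin_cases i
    · simp [hy₁]
    · simp [hy₂]
  rw [e]
  exact h2

/-- case II: `rank (S - 1) ≥ 2` when `a` is outside the range of `g - 1` and `φ` does not vanish at a
fixed vector -/
theorem rank2_of_fixed [FiniteDimensional K V] (g : V →ₗ[K] V) (a : V) (φ : Dual K V)
    (ha : a ∉ LinearMap.range (g - 1)) (f : V) (hf : g f = f) (hφf : φ f ≠ 0)
    (hrk : 2 ≤ finrank K (LinearMap.range (g - 1))) :
    ∃ v w, φ v = 0 ∧ φ w = 0 ∧ LinearIndependent K ![comp g a φ v - v, comp g a φ w - w] := by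
  obtain ⟨y₁, y₂, hli⟩ := exists_pair_of_two_le_finrank_range (g - 1) hrk
  have hT : ∀ y, (g - 1) y = g y - y := fun y => by simp
  have hgaR : g a ∉ LinearMap.range (g - 1) := by
    intro h
    apply ha
    have h2 : g a - a ∈ LinearMap.range (g - 1) := ⟨a, hT a⟩
    have := Submodule.sub_mem _ h h2
    simpa using this
  -- the corrected vectors
  have key : ∀ y, φ (y - (φ y / φ f) • f) = 0 ∧
      comp g a φ (y - (φ y / φ f) • f) - (y - (φ y / φ f) • f) = (g y - y) - φ (g y - y) • g a := by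
    intro y
    have h0 : φ (y - (φ y / φ f) • f) = 0 := by
      simp only [map_sub, map_smul, smul_eq_mul]
      field_simp
      ring
    refine ⟨h0, ?_⟩
    rw [comp_sub_self g a φ _ h0]
    have : g (y - (φ y / φ f) • f) - (y - (φ y / φ f) • f) = g y - y := by
      simp only [map_sub, map_smul, hf]
      abel
    rw [this]
  refine ⟨_, _, (key y₁).1, (key y₂).1, ?_⟩
  rw [(key y₁).2, (key y₂).2]
  rw [LinearIndependent.pair_iff]
  intro s t hst
  rw [hT, hT] at hli
  set κ := s * φ (g y₁ - y₁) + t * φ (g y₂ - y₂) with hκ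
  have e : s • (g y₁ - y₁) + t • (g y₂ - y₂) = κ • g a := by
    have : s • (g y₁ - y₁ - φ (g y₁ - y₁) • g a) + t • (g y₂ - y₂ - φ (g y₂ - y₂) • g a) =
        s • (g y₁ - y₁) + t • (g y₂ - y₂) - κ • g a := by
      rw [hκ]; module
    rw [this] at hst
    exact sub_eq_zero.1 hst
  have hκ0 : κ = 0 := by
    by_contra hne
    apply hgaR
    have hmem : s • (g y₁ - y₁) + t • (g y₂ - y₂) ∈ LinearMap.range (g - 1) := by
      refine Submodule.add_mem _ (Submodule.smul_mem _ _ ⟨y₁, hT y₁⟩) (Submodule.smul_mem _ _ ⟨y₂, hT y₂⟩)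
    rw [e] at hmem
    have := Submodule.smul_mem _ κ⁻¹ hmem
    rwa [smul_smul, inv_mul_cancel₀ hne, one_smul] at this
  rw [hκ0, zero_smul] at e
  exact LinearIndependent.pair_iff.1 hli s t e

/-- rank–nullity version: if the kernel of `S - 1` on `ker φ` lies in a subspace of codimension at least
three, then `rank (S - 1) ≥ 2` -/
theorem rank2_of_ker_le [FiniteDimensional K V] (g : V →ₗ[K] V) (a : V) (φ : Dual K V) (hφ : φ ≠ 0)
    (M : Submodule K V) (hM : ∀ u, φ u = 0 → comp g a φ u - u = 0 → u ∈ M)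
    (hdim : finrank K M + 3 ≤ finrank K V) :
    ∃ v w, φ v = 0 ∧ φ w = 0 ∧ LinearIndependent K ![comp g a φ v - v, comp g a φ w - w] := by
  set Lfull : V →ₗ[K] V := g - (φ.comp g).smulRight (g a) - LinearMap.id with hL
  have hLv : ∀ v, Lfull v = comp g a φ v - v := by
    intro v
    simp [hL, comp]
  set P := LinearMap.ker φ with hP
  set L : P →ₗ[K] V := Lfull.comp P.subtype with hLdef
  have hPdim : finrank K P + 1 = finrank K V := Module.Dual.finrank_ker_add_one_of_ne_zero hφ
  have hker : finrank K (LinearMap.ker L) ≤ finrank K M := by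
    have hle : (LinearMap.ker L).map P.subtype ≤ M := by
      rintro _ ⟨u, hu, rfl⟩
      apply hM
      · exact LinearMap.mem_ker.1 u.2
      · rw [← hLv]
        exact LinearMap.mem_ker.1 hu
    have e1 : finrank K ((LinearMap.ker L).map P.subtype) = finrank K (LinearMap.ker L) :=
      LinearEquiv.finrank_eq (Submodule.equivMapOfInjective P.subtype (Submodule.injective_subtype P) _).symm
    rw [← e1]
    exact Submodule.finrank_mono hle
  have hrn := LinearMap.finrank_range_add_finrank_ker L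
  have h2 : 2 ≤ finrank K (LinearMap.range L) := by omega
  obtain ⟨y₁, y₂, hli⟩ := exists_pair_of_two_le_finrank_range L h2
  refine ⟨y₁.1, y₂.1, LinearMap.mem_ker.1 y₁.2, LinearMap.mem_ker.1 y₂.2, ?_⟩
  have e : ∀ y : P, L y = comp g a φ y.1 - y.1 := fun y => by
    rw [hLdef, LinearMap.comp_apply, Submodule.subtype_apply, hLv]
  rw [e, e] at hli
  exact hli

end Cfsg.Agent.Lib.Helper65.RU
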