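import Cfsg.Agent.Lib.Helper65.RU.ExistB
import Cfsg.Agent.Lib.Helper25.RUAV1
import Cfsg.Agent.Lib.Helper25.RUAV2
import Cfsg.Agent.Lib.Helper33.RUNE
import Cfsg.Agent.Lib.Helper2.RUF1
import Cfsg.Agent.Lib.Helper49.RUDET3

/-! # S2522: selection of the functional `φ` (helper65) -/

set_option autoImplicit false

namespace Cfsg.Agent.Lib.Helper65.RU

open Module

variable {K : Type*} [Field K] {V : Type*} [AddCommGroup V] [Module K V]

/-- selection of an admissible `φ` outside three bad sets, with non-scalar compression -/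
theorem exists_adm_select (hK : 4 ≤ Cardinal.mk K) [FiniteDimensional K V] (h3 : 3 ≤ finrank K V)
    (g : V →ₗ[K] V) (hg : Function.Injective g) (a : V) (hli : LinearIndependent K ![a, g a]) (x : V)
    (hx : x ∉ Submodule.span K {g a - a})
    (B₂ B₃ : AffineSubspace K (Dual K V)) (hB₂ : ¬ admSpace g a ≤ B₂) (hB₃ : ¬ admSpace g a ≤ B₃) :
    ∃ φ : Dual K V, φ a = 1 ∧ φ (g a) = 1 ∧ φ x ≠ 0 ∧ φ ∉ B₂ ∧
      (¬ ∃ c : K, ∀ v, φ v = 0 → comp g a φ v = c • v) ∧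
      ((∃ φb : Dual K V, φb a = 1 ∧ φb (g a) = 1 ∧ ∃ c : K, ∀ v, φb v = 0 → comp g a φb v = c • v) ∨ φ ∉ B₃) := by
  by_cases hsc : ∃ φb : Dual K V, φb a = 1 ∧ φb (g a) = 1 ∧ ∃ c : K, ∀ v, φb v = 0 → comp g a φb v = c • v
  · obtain ⟨φb, hb1, hb2, cb, hcb⟩ := hsc
    obtain ⟨φ, hφ, hφB⟩ := exists_mem_not_mem_three hK (admSpace g a) ![zeroAt x, B₂, pointAt φb] (by
      intro i
      fin_cases i
      · exact admSpace_not_le_zeroAt g a hli x hx
      · exact hB₂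
      · exact admSpace_not_le_pointAt h3 g a hli φb)
    refine ⟨φ, hφ.1, hφ.2, hφB 0, hφB 1, ?_, Or.inl ⟨φb, hb1, hb2, cb, hcb⟩⟩
    rintro ⟨c, hc⟩
    exact hφB 2 (scalar_unique g hg a hli φ φb hφ.1 hφ.2 hb1 hb2 c cb hc hcb)
  · obtain ⟨φ, hφ, hφB⟩ := exists_mem_not_mem_three hK (admSpace g a) ![zeroAt x, B₂, B₃] (by
      intro i
      fin_cases i
      · exact admSpace_not_le_zeroAt g a hli x hx
      · exact hB₂
      · exact hB₃)
    refine ⟨φ, hφ.1, hφ.2, hφB 0, hφB 1, ?_, Or.inr (hφB 2)⟩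
    rintro ⟨c, hc⟩
    exact hsc ⟨φ, hφ.1, hφ.2, c, hc⟩

end Cfsg.Agent.Lib.Helper65.RU
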