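import Cfsg.Agent.Lib.Helper65.RU.ExistC

/-! # S2522: existence of a good pair `(a, φ)`, case `g - 1` injective (helper65) -/

set_option autoImplicit false

namespace Cfsg.Agent.Lib.Helper65.RU

open Module

variable {K : Type*} [Field K] {V : Type*} [AddCommGroup V] [Module K V]

theorem injective_of_det_eq_one [FiniteDimensional K V] (g : V →ₗ[K] V) (hdet : LinearMap.det g = 1) :
    Function.Injective g := by
  have hu : IsUnit g := (LinearMap.isUnit_iff_isUnit_det g).2 (by rw [hdet]; exact isUnit_one)
  exact LinearMap.ker_eq_bot.1 ((LinearMap.isUnit_iff_ker_eq_bot g).1 hu)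

theorem T_apply (g : V →ₗ[K] V) (y : V) : (g - 1 : V →ₗ[K] V) y = g y - y := by simp

/-- the preimage of a line under a map of rank at least two is a proper subspace -/
theorem comap_span_ne_top [FiniteDimensional K V] (T : V →ₗ[K] V) (hrk : 2 ≤ finrank K (LinearMap.range T))
    (x : V) : (Submodule.span K {x}).comap T ≠ ⊤ := by
  intro h
  have hle : LinearMap.range T ≤ Submodule.span K {x} := by
    rintro _ ⟨y, rfl⟩
    have : y ∈ (Submodule.span K {x}).comap T := by rw [h]; trivial
    exact this
  have h1 := Submodule.finrank_mono hle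
  have h2 : finrank K (Submodule.span K {x}) ≤ 1 := by
    have := finrank_span_le_card (R := K) ({x} : Set V)
    simpa using this
  omega

theorem ker_dual_ne_top (ψ : Dual K V) (hψ : ψ ≠ 0) : LinearMap.ker ψ ≠ ⊤ := by
  intro h
  apply hψ
  exact LinearMap.ker_eq_top.1 h

/-- if `Ta ∉ span {x}` and `x ≠ 0` then `x ∉ span {Ta}` -/
theorem notMem_span_swap (x t : V) (hx : x ≠ 0) (h : t ∉ Submodule.span K {x}) : x ∉ Submodule.span K {t} := by
  intro hmem
  obtain ⟨c, hc⟩ := Submodule.mem_span_singleton.1 hmem
  have hc0 : c ≠ 0 := by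
    rintro rfl
    rw [zero_smul] at hc
    exact hx hc.symm
  apply h
  rw [Submodule.mem_span_singleton]
  exact ⟨c⁻¹, by rw [← hc, smul_smul, inv_mul_cancel₀ hc0, one_smul]⟩

/-- Case I: `g - 1` injective -/
theorem exists_peel_inj (hK : 4 ≤ Cardinal.mk K) [FiniteDimensional K V] (hV : 2 ≤ finrank K V) (g : V →ₗ[K] V)
    (hdet : LinearMap.det g = 1) (hns : ¬ ∃ c : K, g = c • LinearMap.id)
    (hrk : 2 ≤ finrank K (LinearMap.range (g - 1))) (hinj : Function.Injective (g - 1 : V →ₗ[K] V))
    (x : V) (hx : x ≠ 0) (ψ : Dual K V) (hψ : ψ ≠ 0) : ∃ a φ, Peel g x ψ a φ := by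
  have hg := injective_of_det_eq_one g hdet
  have hsurj : Function.Surjective (g - 1 : V →ₗ[K] V) := LinearMap.injective_iff_surjective.1 hinj
  obtain ⟨a, hli, haψ, hax⟩ := exists_not_eigen hK g hns (LinearMap.ker ψ)
    ((Submodule.span K {x}).comap (g - 1)) (ker_dual_ne_top ψ hψ) (comap_span_ne_top _ hrk x)
  have hψa : ψ a ≠ 0 := fun h => haψ (LinearMap.mem_ker.2 h)
  have hTa : g a - a ∉ Submodule.span K {x} := by
    intro h
    apply hax
    rw [Submodule.mem_comap, T_apply]
    exact h
  have hxT : x ∉ Submodule.span K {g a - a} := notMem_span_swap x _ hx hTa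
  have hne : g a ≠ a := fun h => sub_ne_zero_of_li g a hli (by rw [h, sub_self])
  obtain ⟨y₀, hy₀⟩ := hsurj (g a)
  rw [T_apply] at hy₀
  obtain ⟨ya, hya⟩ := hsurj a
  rw [T_apply] at hya
  -- the kernel of `S - 1`
  have hkerS : ∀ (φ : Dual K V) (u : V), φ u = 0 → comp g a φ u - u = 0 → u = φ (g u - u) • y₀ := by
    intro φ u hu h0
    rw [comp_sub_self g a φ u hu, sub_eq_zero] at h0
    apply hinj
    rw [T_apply, map_smul, T_apply, hy₀]
    exact h0
  by_cases h3 : 3 ≤ finrank K V
  · by_cases h4 : 4 ≤ finrank K V
    · -- no condition at `y₀`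
      obtain ⟨φ, h1, h2, hφx, -, hnsc, -⟩ := exists_adm_select hK h3 g hg a hli x hxT (zeroAt x) (zeroAt x)
        (admSpace_not_le_zeroAt g a hli x hxT) (admSpace_not_le_zeroAt g a hli x hxT)
      have hφ0 : φ ≠ 0 := by
        rintro rfl
        simp at h1
      refine ⟨a, φ, h1, h2, hne, hψa, hφx, ?_, fun _ => hnsc, fun _ => ?_⟩
      · exact row_of g a φ h1 h2 ya (by rw [hya, h1]; exact one_ne_zero)
      · apply rank2_of_ker_le g a φ hφ0 (Submodule.span K {y₀})
        · intro u hu h0
          rw [hkerS φ u hu h0]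
          exact Submodule.smul_mem _ _ (Submodule.mem_span_singleton_self _)
        · have h2 : finrank K (Submodule.span K {y₀}) ≤ 1 := by
            have := finrank_span_le_card (R := K) ({y₀} : Set V)
            simpa using this
          omega
    · -- dimension three
      have h3' : finrank K V = 3 := by omega
      have hy₀T : y₀ ∉ Submodule.span K {g a - a} := by
        intro hmem
        obtain ⟨c, hc⟩ := Submodule.mem_span_singleton.1 hmem
        have hc0 : c ≠ 0 := by
          rintro rfl
          rw [zero_smul] at hc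
          rw [← hc, map_zero, zero_sub] at hy₀
          have : g a = 0 := by rw [← hy₀]; simp
          have ha0 : a = 0 := hg (by rw [this, map_zero])
          exact hne (by rw [ha0, map_zero])
        -- `g t = c⁻¹ a + (1 + c⁻¹) t` for `t = g a - a`
        have hgt : g (g a - a) = c⁻¹ • a + (1 + c⁻¹) • (g a - a) := by
          obtain ⟨t, ht⟩ : ∃ t, t = g a - a := ⟨_, rfl⟩
          have hga : g a = a + t := by rw [ht]; abel
          rw [← ht]
          rw [← ht] at hc
          have e1 : c • g t - c • t = a + t := by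
            rw [← hga, ← map_smul, hc]
            exact hy₀
          have e2 : c • g t = a + t + c • t := by
            rw [← e1]; abel
          have e3 : g t = c⁻¹ • (c • g t) := by
            rw [smul_smul, inv_mul_cancel₀ hc0, one_smul]
          rw [e3, e2, smul_add, smul_add, smul_smul, inv_mul_cancel₀ hc0]
          module
        have hli2 : LinearIndependent K ![a, g a - a] := by
          rw [LinearIndependent.pair_iff]
          intro s t hst
          have : (s - t) • a + t • g a = 0 := by rw [← hst]; module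
          obtain ⟨e1, e2⟩ := LinearIndependent.pair_iff.1 hli _ _ this
          rw [e2, sub_zero] at e1
          exact ⟨e1, e2⟩
        exact not_surjective_of_plane h3' g hdet a (g a - a) hli2 c⁻¹ (by abel) hgt hsurj
      obtain ⟨φ, h1, h2, hφx, hφy, hnsc, -⟩ := exists_adm_select hK h3 g hg a hli x hxT (zeroAt y₀) (zeroAt y₀)
        (admSpace_not_le_zeroAt g a hli y₀ hy₀T) (admSpace_not_le_zeroAt g a hli y₀ hy₀T)
      have hφy' : φ y₀ ≠ 0 := hφy
      have hφ0 : φ ≠ 0 := by
        rintro rfl
        simp at h1
      refine ⟨a, φ, h1, h2, hne, hψa, hφx, ?_, fun _ => hnsc, fun _ => ?_⟩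
      · exact row_of g a φ h1 h2 ya (by rw [hya, h1]; exact one_ne_zero)
      · apply rank2_of_ker_le g a φ hφ0 ⊥
        · intro u hu h0
          have e := hkerS φ u hu h0
          have : φ u = φ (g u - u) * φ y₀ := by
            conv_lhs => rw [e]
            simp
          rw [hu] at this
          have h00 : φ (g u - u) = 0 := by
            rcases mul_eq_zero.1 this.symm with h | h
            · exact h
            · exact absurd h hφy'
          rw [h00, zero_smul] at e
          rw [e]
          exact Submodule.zero_mem _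
        · rw [finrank_bot]
          omega
  · -- dimension two
    obtain ⟨φ, h1, h2, hφx⟩ := exists_adm_ne g a hli x hxT
    refine ⟨a, φ, h1, h2, hne, hψa, hφx, ?_, fun h => absurd h h3, fun h => absurd h h3⟩
    exact row_of g a φ h1 h2 ya (by rw [hya, h1]; exact one_ne_zero)

end Cfsg.Agent.Lib.Helper65.RU
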