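import Cfsg.Agent.Lib.Helper65.RU.ExistD

/-! # S2522: existence of a good pair `(a, φ)`, case `g - 1` not injective, and the final statement (helper65) -/

set_option autoImplicit false

namespace Cfsg.Agent.Lib.Helper65.RU

open Module

variable {K : Type*} [Field K] {V : Type*} [AddCommGroup V] [Module K V]

/-- `a ∉ range (g - 1)` and `g a ≠ a` make `a, g a` independent -/
theorem li_of_notMem_range (g : V →ₗ[K] V) (a : V) (haR : a ∉ LinearMap.range (g - 1)) (hne : g a - a ≠ 0) :
    LinearIndependent K ![a, g a] := by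
  rw [LinearIndependent.pair_iff]
  intro s t hst
  have e : (s + t) • a = -(t • (g a - a)) := by
    have : (s + t) • a + t • (g a - a) = s • a + t • g a := by module
    rw [hst] at this
    exact eq_neg_of_add_eq_zero_left this
  have hst0 : s + t = 0 := by
    by_contra hne0
    apply haR
    have hmem : -(t • (g a - a)) ∈ LinearMap.range (g - 1) :=
      Submodule.neg_mem _ (Submodule.smul_mem _ _ ⟨a, T_apply g a⟩)
    rw [← e] at hmem
    have := Submodule.smul_mem _ (s + t)⁻¹ hmem
    rwa [smul_smul, inv_mul_cancel₀ hne0, one_smul] at this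
  rw [hst0, zero_smul] at e
  have ht : t = 0 := by
    have : t • (g a - a) = 0 := by
      have := neg_eq_zero.1 e.symm
      exact this
    rcases smul_eq_zero.1 this with h | h
    · exact h
    · exact absurd h hne
  rw [ht, add_zero] at hst0
  exact ⟨hst0, ht⟩

/-- Case II: `g - 1` not injective -/
theorem exists_peel_sing (hK : 4 ≤ Cardinal.mk K) [FiniteDimensional K V] (g : V →ₗ[K] V)
    (hdet : LinearMap.det g = 1)
    (hrk : 2 ≤ finrank K (LinearMap.range (g - 1))) (hinj : ¬ Function.Injective (g - 1 : V →ₗ[K] V))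
    (x : V) (hx : x ≠ 0) (ψ : Dual K V) (hψ : ψ ≠ 0) : ∃ a φ, Peel g x ψ a φ := by
  have hg := injective_of_det_eq_one g hdet
  have hK4 : ((4 : ℕ) : Cardinal) ≤ Cardinal.mk K := by exact_mod_cast hK
  -- a fixed vector
  obtain ⟨f₀, hf₀0, hf₀⟩ : ∃ f₀ : V, f₀ ≠ 0 ∧ g f₀ = f₀ := by
    have hker : LinearMap.ker (g - 1 : V →ₗ[K] V) ≠ ⊥ := fun h => hinj (LinearMap.ker_eq_bot.1 h)
    obtain ⟨f, hf, hf0⟩ := Submodule.exists_mem_ne_zero_of_ne_bot hker
    refine ⟨f, hf0, ?_⟩
    have := LinearMap.mem_ker.1 hf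
    rw [T_apply] at this
    exact sub_eq_zero.1 this
  have hRtop : LinearMap.range (g - 1 : V →ₗ[K] V) ≠ ⊤ := by
    intro h
    exact hinj (LinearMap.injective_iff_surjective.2 (LinearMap.range_eq_top.1 h))
  have h3 : 3 ≤ finrank K V := by
    have h1 := LinearMap.finrank_range_add_finrank_ker (g - 1 : V →ₗ[K] V)
    have h2 : 0 < finrank K (LinearMap.ker (g - 1 : V →ₗ[K] V)) := by
      apply Module.finrank_pos_iff_exists_ne_zero.2
      refine ⟨⟨f₀, ?_⟩, ?_⟩
      · rw [LinearMap.mem_ker, T_apply, hf₀, sub_self]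
      · intro h
        exact hf₀0 (congrArg Subtype.val h)
    omega
  by_cases hNR : ∃ f : V, f ≠ 0 ∧ g f = f ∧ f ∈ LinearMap.range (g - 1 : V →ₗ[K] V)
  · -- Case IIa
    obtain ⟨f, hf0, hgf, hfR⟩ := hNR
    obtain ⟨a, ha⟩ := exists_not_mem_of_card_le hK4
      ![LinearMap.range (g - 1 : V →ₗ[K] V), (Submodule.span K {f}).comap (g - 1),
        (Submodule.span K {x}).comap (g - 1), LinearMap.ker ψ] (by
        intro i
        fin_cases i
        · exact hRtop
        · exact comap_span_ne_top _ hrk f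
        · exact comap_span_ne_top _ hrk x
        · exact ker_dual_ne_top ψ hψ)
    have haR : a ∉ LinearMap.range (g - 1 : V →ₗ[K] V) := ha 0
    have hTf : g a - a ∉ Submodule.span K {f} := by
      intro h
      apply ha 1
      show a ∈ (Submodule.span K {f}).comap (g - 1)
      rw [Submodule.mem_comap, T_apply]
      exact h
    have hTx : g a - a ∉ Submodule.span K {x} := by
      intro h
      apply ha 2
      show a ∈ (Submodule.span K {x}).comap (g - 1)
      rw [Submodule.mem_comap, T_apply]
      exact h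
    have hψa : ψ a ≠ 0 := fun h => ha 3 (LinearMap.mem_ker.2 h)
    have hT0 : g a - a ≠ 0 := fun h => hTx (by rw [h]; exact Submodule.zero_mem _)
    have hne : g a ≠ a := fun h => hT0 (by rw [h, sub_self])
    have hli := li_of_notMem_range g a haR hT0
    have hxT := notMem_span_swap x _ hx hTx
    have hfT := notMem_span_swap f _ hf0 hTf
    obtain ⟨φ, h1, h2, hφx, hφf, hnsc, -⟩ := exists_adm_select hK h3 g hg a hli x hxT (zeroAt f) (zeroAt f)
      (admSpace_not_le_zeroAt g a hli f hfT) (admSpace_not_le_zeroAt g a hli f hfT)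
    have hφf' : φ f ≠ 0 := hφf
    obtain ⟨y, hy⟩ := hfR
    rw [T_apply] at hy
    refine ⟨a, φ, h1, h2, hne, hψa, hφx, ?_, fun _ => hnsc, fun _ => ?_⟩
    · exact row_of g a φ h1 h2 y (by rw [hy]; exact hφf')
    · exact rank2_of_fixed g a φ haR f hgf hφf' hrk
  · -- Case IIb
    obtain ⟨a, ha⟩ := exists_not_mem_of_card_le hK4
      ![LinearMap.range (g - 1 : V →ₗ[K] V), (Submodule.span K {x}).comap (g - 1),
        LinearMap.ker ψ, LinearMap.ker ψ] (by
        intro i
        fin_cases i
        · exact hRtop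
        · exact comap_span_ne_top _ hrk x
        · exact ker_dual_ne_top ψ hψ
        · exact ker_dual_ne_top ψ hψ)
    have haR : a ∉ LinearMap.range (g - 1 : V →ₗ[K] V) := ha 0
    have hTx : g a - a ∉ Submodule.span K {x} := by
      intro h
      apply ha 1
      show a ∈ (Submodule.span K {x}).comap (g - 1)
      rw [Submodule.mem_comap, T_apply]
      exact h
    have hψa : ψ a ≠ 0 := fun h => ha 2 (LinearMap.mem_ker.2 h)
    have hT0 : g a - a ≠ 0 := fun h => hTx (by rw [h]; exact Submodule.zero_mem _)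
    have hne : g a ≠ a := fun h => hT0 (by rw [h, sub_self])
    have hli := li_of_notMem_range g a haR hT0
    have hxT := notMem_span_swap x _ hx hTx
    have htR : g a - a ∈ LinearMap.range (g - 1 : V →ₗ[K] V) := ⟨a, T_apply g a⟩
    -- a vector of the range outside the line of `g a - a`
    obtain ⟨ρ₁, hρR, hρT⟩ : ∃ ρ₁ ∈ LinearMap.range (g - 1 : V →ₗ[K] V), ρ₁ ∉ Submodule.span K {g a - a} := by
      by_contra hcon
      push Not at hcon
      have hle : LinearMap.range (g - 1 : V →ₗ[K] V) ≤ Submodule.span K {g a - a} := hcon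
      have h1 := Submodule.finrank_mono hle
      have h2 : finrank K (Submodule.span K {g a - a}) ≤ 1 := by
        have := finrank_span_le_card (R := K) ({g a - a} : Set V)
        simpa using this
      omega
    have hf₀T : f₀ ∉ Submodule.span K {g a - a} := by
      intro hmem
      apply hNR
      refine ⟨f₀, hf₀0, hf₀, ?_⟩
      obtain ⟨c, hc⟩ := Submodule.mem_span_singleton.1 hmem
      rw [← hc]
      exact Submodule.smul_mem _ _ htR
    obtain ⟨φ, h1, h2, hφx, hφρ, hnsc, hor⟩ := exists_adm_select hK h3 g hg a hli x hxT (zeroAt ρ₁) (zeroAt f₀)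
      (admSpace_not_le_zeroAt g a hli ρ₁ hρT) (admSpace_not_le_zeroAt g a hli f₀ hf₀T)
    have hφρ' : φ ρ₁ ≠ 0 := hφρ
    have hφt : φ (g a - a) = 0 := by rw [map_sub, h1, h2, sub_self]
    -- a fixed vector at which `φ` does not vanish
    obtain ⟨f, hgf, hφf⟩ : ∃ f : V, g f = f ∧ φ f ≠ 0 := by
      rcases hor with ⟨φb, hb1, hb2, c, hc⟩ | h
      · obtain ⟨t, ht⟩ : ∃ t, t = g a - a := ⟨_, rfl⟩
        have hga : g a = a + t := by rw [ht]; abel
        have hbt : φb t = 0 := by rw [ht, map_sub, hb1, hb2, sub_self]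
        have hct := hc t hbt
        unfold comp at hct
        rw [← ht] at htR hT0 hφt
        -- `τ = φb (g t)` vanishes
        obtain ⟨τ, hτdef⟩ : ∃ τ, τ = φb (g t) := ⟨_, rfl⟩
        rw [← hτdef] at hct
        have hτ : τ = 0 := by
          by_contra hτ0
          apply haR
          have e : τ • a = (g t - t) - (c - 1 + τ) • t := by
            have : g t = c • t + τ • g a := by rw [← hct]; abel
            rw [hga] at this
            rw [this]
            module
          have hmem : (g t - t) - (c - 1 + τ) • t ∈ LinearMap.range (g - 1 : V →ₗ[K] V) :=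
            Submodule.sub_mem _ ⟨t, T_apply g t⟩ (Submodule.smul_mem _ _ htR)
          rw [← e] at hmem
          have := Submodule.smul_mem _ τ⁻¹ hmem
          rwa [smul_smul, inv_mul_cancel₀ hτ0, one_smul] at this
        rw [hτ, zero_smul, sub_zero] at hct
        have hc1 : c - 1 ≠ 0 := by
          intro h0
          have hc' : c = 1 := sub_eq_zero.1 h0
          rw [hc', one_smul] at hct
          exact hNR ⟨t, hT0, hct, htR⟩
        refine ⟨(c - 1) • a - t, ?_, ?_⟩
        · rw [map_sub, map_smul, hct, hga]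
          module
        · rw [map_sub, map_smul, h1, hφt]
          simpa using hc1
      · exact ⟨f₀, hf₀, h⟩
    obtain ⟨y, hy⟩ := hρR
    rw [T_apply] at hy
    refine ⟨a, φ, h1, h2, hne, hψa, hφx, ?_, fun _ => hnsc, fun _ => ?_⟩
    · exact row_of g a φ h1 h2 y (by rw [hy]; exact hφρ')
    · exact rank2_of_fixed g a φ haR f hgf hφf hrk

/-- EX: the existence of a good pair `(a, φ)` -/
theorem exists_peel (hK : 4 ≤ Cardinal.mk K) [FiniteDimensional K V] (hV : 2 ≤ finrank K V) (g : V →ₗ[K] V)
    (hdet : LinearMap.det g = 1) (hns : ¬ ∃ c : K, g = c • LinearMap.id)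
    (hrk : 2 ≤ finrank K (LinearMap.range (g - 1))) (x : V) (hx : x ≠ 0) (ψ : Module.Dual K V) (hψ : ψ ≠ 0) :
    ∃ a φ, Peel g x ψ a φ := by
  by_cases hinj : Function.Injective (g - 1 : V →ₗ[K] V)
  · exact exists_peel_inj hK hV g hdet hns hrk hinj x hx ψ hψ
  · exact exists_peel_sing hK g hdet hrk hinj x hx ψ hψ

end Cfsg.Agent.Lib.Helper65.RU
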