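import Cfsg.Agent.Lib.Helper65.RU.ExistE
import Cfsg.Agent.Lib.Helper97.RUBR
import Cfsg.Agent.Lib.Helper97.RUL3
import Cfsg.Agent.Lib.Helper2.RUL4
import Cfsg.Agent.Lib.Helper92.RUL2

/-! # S2522: assembly (helper65; leaves by helper2, helper25, helper33, helper49, helper92, helper97) -/

set_option autoImplicit false

namespace Cfsg.Agent.Lib.Helper65.RU

open Matrix Module

variable {K : Type*} [Field K]

theorem exists_dualOf {n : ℕ} (φ : Dual K (Fin n → K)) : ∃ w : Fin n → K, dualOf w = φ := by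
  refine ⟨fun i => φ (fun j => if i = j then (1 : K) else 0), ?_⟩
  apply LinearMap.ext
  intro v
  rw [dualOf_apply]
  conv_rhs => rw [pi_eq_sum_univ v, map_sum]
  unfold dotProduct
  refine Finset.sum_congr rfl fun i _ => ?_
  rw [map_smul, smul_eq_mul]
  exact mul_comm _ _

theorem dualOf_ne_zero {n : ℕ} (ψ : Fin n → K) (hψ : ψ ≠ 0) : dualOf ψ ≠ 0 := by
  intro h
  apply hψ
  funext i
  have := LinearMap.congr_fun h (Pi.single i 1)
  simpa [dualOf_apply] using this

theorem toLin'_sub_one {n : ℕ} (A : Matrix (Fin n) (Fin n) K) :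
    (Matrix.toLin' A - 1 : (Fin n → K) →ₗ[K] (Fin n → K)) = (A - 1).mulVecLin := by
  apply LinearMap.ext
  intro v
  simp [Matrix.sub_mulVec]

theorem target_succ (hK : 4 ≤ Cardinal.mk K) (m : ℕ) (ih : Target K m) : Target K (m + 1) := by
  intro A hdet hH x ψ hx hψ
  rcases hH with h | ⟨hns, hrk⟩
  · omega
  have hV : finrank K (Fin (m + 1 + 1) → K) = m + 2 := by simp
  have hns' : ¬ ∃ c : K, Matrix.toLin' A = c • LinearMap.id := by
    rintro ⟨c, hc⟩
    apply hns
    refine ⟨c, ?_⟩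
    apply Matrix.toLin'.injective
    rw [hc, map_smul, Matrix.toLin'_one]
  have hrk' : 2 ≤ finrank K (LinearMap.range (Matrix.toLin' A - 1 : (Fin (m + 1 + 1) → K) →ₗ[K] _)) := by
    rw [toLin'_sub_one]
    exact hrk
  obtain ⟨a, φ, hp⟩ := exists_peel hK (by rw [hV]; omega) (Matrix.toLin' A)
    (by rw [LinearMap.det_toLin']; exact hdet) hns' hrk' x hx (dualOf ψ) (dualOf_ne_zero ψ hψ)
  obtain ⟨w, hw⟩ := exists_dualOf φ
  rw [← hw] at hp
  obtain ⟨P₁, h00, hc, hr, hS, hψ1, hx1⟩ := exists_conj_of_peel A x ψ a w hp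
  have hdet' : ((P₁⁻¹ : GL (Fin (m + 2)) K).val * A * P₁.val).det = 1 := by
    rw [Matrix.det_mul, Matrix.det_mul, hdet, mul_one, ← Matrix.det_mul, ← Units.val_mul, inv_mul_cancel,
      Units.val_one, Matrix.det_one]
  obtain ⟨P, hLU, hP0, hPi0⟩ := step ih _ hdet' h00 hc hr hS
  refine ⟨P₁ * P, ?_, ?_, ?_⟩
  · have e : ((P₁ * P)⁻¹ : GL (Fin (m + 2)) K).val * A * (P₁ * P).val =
        (P⁻¹ : GL (Fin (m + 2)) K).val * ((P₁⁻¹ : GL (Fin (m + 2)) K).val * A * P₁.val) * P.val := by
      rw [_root_.mul_inv_rev, Units.val_mul, Units.val_mul]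
      simp only [Matrix.mul_assoc]
    rw [e]
    exact hLU
  · rw [Units.val_mul, ← Matrix.vecMul_vecMul]
    have : (ψ ᵥ* P₁.val ᵥ* P.val) 0 = (ψ ᵥ* P₁.val) 0 := by
      simp only [Matrix.vecMul, dotProduct]
      rw [Finset.sum_eq_single 0]
      · rw [hP0 0, if_pos rfl, mul_one]
      · intro i _ hi
        rw [hP0 i, if_neg hi, mul_zero]
      · intro h; exact absurd (Finset.mem_univ _) h
    rw [this]
    exact hψ1
  · rw [_root_.mul_inv_rev, Units.val_mul, ← Matrix.mulVec_mulVec]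
    have : ((P⁻¹ : GL (Fin (m + 2)) K).val *ᵥ ((P₁⁻¹ : GL (Fin (m + 2)) K).val *ᵥ x)) 0 =
        ((P₁⁻¹ : GL (Fin (m + 2)) K).val *ᵥ x) 0 := by
      simp only [Matrix.mulVec, dotProduct]
      rw [Finset.sum_eq_single 0]
      · rw [hPi0 0, if_pos rfl, one_mul]
      · intro j _ hj
        rw [hPi0 j, if_neg hj, zero_mul]
      · intro h; exact absurd (Finset.mem_univ _) h
    rw [this]
    exact hx1

theorem target_all (hK : 4 ≤ Cardinal.mk K) : ∀ n, Target K n := by
  intro n
  induction n with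
  | zero => exact target_zero
  | succ m ih => exact target_succ hK m ih

/-- the theorem: every non-scalar matrix of determinant one is a product of two conjugates of `J` -/
theorem main_theorem (hK : 4 ≤ Cardinal.mk K) (n : ℕ) (hn : 3 ≤ n) (J g : GL (Fin n) K)
    (hJ : ∀ i j : Fin n, (J : Matrix (Fin n) (Fin n) K) i j = if i = j then 1 else if j.val = i.val + 1 then 1 else 0)
    (hg : ¬ ∃ c : K, (g : Matrix (Fin n) (Fin n) K) = c • (1 : Matrix (Fin n) (Fin n) K))
    (hdet : (g : Matrix (Fin n) (Fin n) K).det = 1) :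
    ∃ x y : GL (Fin n) K, g = (x * J * x⁻¹) * (y * J * y⁻¹) := by
  have hJ' : J.val = Jmat n := by
    funext i j
    rw [hJ i j]
    rfl
  by_cases hrk : 2 ≤ (g.val - 1).rank
  · obtain ⟨k, rfl⟩ : ∃ k, n = k + 1 := ⟨n - 1, by omega⟩
    have hx0 : (Pi.single 0 1 : Fin (k + 1) → K) ≠ 0 := by
      intro h
      have := congrFun h 0
      simp at this
    obtain ⟨P, ⟨L, U, hL, hU, hLU⟩, -, -⟩ := target_all hK k g.val hdet (Or.inr ⟨hg, hrk⟩)
      (Pi.single 0 1) (Pi.single 0 1) hx0 hx0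
    obtain ⟨Q₁, hQ₁⟩ := conj_Jmat_of_isRegLower L hL
    obtain ⟨Q₂, hQ₂⟩ := conj_Jmat_of_isRegUpper U hU
    refine ⟨P * Q₁, P * Q₂, ?_⟩
    have hL' : (Q₁ * J * Q₁⁻¹ : GL (Fin (k + 1)) K).val = L := by
      rw [Units.val_mul, Units.val_mul, hJ', ← hQ₁]
    have hU' : (Q₂ * J * Q₂⁻¹ : GL (Fin (k + 1)) K).val = U := by
      rw [Units.val_mul, Units.val_mul, hJ', ← hQ₂]
    have hG : P⁻¹ * g * P = (Q₁ * J * Q₁⁻¹) * (Q₂ * J * Q₂⁻¹) := by
      apply Units.ext
      rw [Units.val_mul (Q₁ * J * Q₁⁻¹), hL', hU', ← hLU, Units.val_mul, Units.val_mul]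
    have hg' : g = P * (P⁻¹ * g * P) * P⁻¹ := by group
    rw [hg', hG]
    group
  · have h1 : (g.val - 1).rank = 1 := by
      have h0 : (g.val - 1).rank ≠ 0 := by
        intro h0
        apply hg
        refine ⟨1, ?_⟩
        have hz : g.val - 1 = 0 := by
          have hker : LinearMap.range (g.val - 1).mulVecLin = ⊥ := by
            apply Submodule.finrank_eq_zero.1
            exact h0
          have hlin : (g.val - 1).mulVecLin = 0 := LinearMap.range_eq_bot.1 hker
          have : Matrix.toLin' (g.val - 1) = Matrix.toLin' (0 : Matrix (Fin n) (Fin n) K) := by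
            rw [map_zero]
            apply LinearMap.ext
            intro v
            have := LinearMap.congr_fun hlin v
            simpa using this
          exact Matrix.toLin'.injective this
        rw [one_smul]
        exact sub_eq_zero.1 hz
      omega
    exact transvection_case hn J g hJ' h1 hdet

end Cfsg.Agent.Lib.Helper65.RU
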